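import Cfsg.Agent.H661.SC.Base
import Cfsg.Agent.H593.IMTits
import Cfsg.Agent.H442.ZerosTwisted

/-!
# S4526: the Tits group
-/

set_option autoImplicit false

open Cfsg

universe u

namespace Cfsg.Agent.H24.SC.Tits

open Cfsg.Agent.Characters.Core Cfsg.Agent.H625.SylConst Cfsg.Agent.H661.SC

/-- A character of `p`-defect zero. -/
theorem imc_of_hasDZ {S : Type u} [Group S] [Finite S] {p : ℕ} [hp : Fact p.Prime] (hd : p ∣ Nat.card S)
    (h : H665.NoPQ.HasDZ p S) : IMC p S := by
  obtain ⟨χ, hχ⟩ := h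
  refine IMC.of_defect_zero hd χ ?_
  rw [← hχ]
  exact Nat.ordProj_dvd _ _

theorem two_aux {S : Type u} [Group S] [Finite S] {T : Type*} [Group T]
    (hc : Nat.card T = 2 ^ 11 * 3 ^ 3 * 5 ^ 2 * 13) (χ : IrrCharacter T) (hχ : charDegree (χ : T → ℂ) = 2 ^ 11)
    (e : S ≃* T) : IMC 2 S := by
  have : Fact (Nat.Prime 2) := ⟨Nat.prime_two⟩
  have hfin : Finite T := Finite.of_equiv S e.toEquiv
  refine IMC.of_equiv e (IMC.of_defect_zero (by rw [hc]; norm_num) χ ?_)
  rw [hχ, hc]
  apply pow_dvd_pow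
  rw [Nat.factorization_mul (by norm_num) (by norm_num), Nat.factorization_mul (by norm_num) (by norm_num),
    Nat.factorization_mul (by norm_num) (by norm_num), Nat.prime_two.factorization_pow,
    Finsupp.add_apply, Finsupp.add_apply, Finsupp.add_apply, Finsupp.single_eq_same,
    Nat.factorization_eq_zero_of_not_dvd (by norm_num), Nat.factorization_eq_zero_of_not_dvd (by norm_num),
    Nat.factorization_eq_zero_of_not_dvd (by norm_num)]

/-- **Row S-Tits of S4526.** -/
theorem imc_tits {S : Type u} [Group S] [Finite S] (h : Lie.IsoTits S) (_hs : IsSimpleGroup S) {p : ℕ}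
    [hp : Fact p.Prime] (hd : p ∣ Nat.card S) : IMC p S := by
  by_cases h2 : p = 2
  · subst h2
    obtain ⟨e⟩ := h
    obtain ⟨χ, hχ⟩ := H442.ZerosTwisted.exists_deg
    exact two_aux Cfsg.Agent.S1074.result.2.2.2 χ hχ e
  · by_cases h5 : p = 5
    · subst h5
      refine imc_of_IM ?_ (Cfsg.Agent.H593.IMTits.im_tits h hd)
      rw [Cfsg.Agent.NotCT.Orders.tits h]
      norm_num
    · exact imc_of_hasDZ hd (Cfsg.Agent.H690.Spor.Tits.hasDZ h hp.out h2 h5)

end Cfsg.Agent.H24.SC.Tits
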